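import Mathlib.AlgebraicGeometry.Morphisms.ClosedImmersion
import Mathlib.AlgebraicGeometry.Morphisms.Separated
import Mathlib.AlgebraicGeometry.Morphisms.Flat
import Mathlib.AlgebraicGeometry.FunctionField
import Mathlib.RingTheory.Flat.TorsionFree

/-! Nonempty opens of an integral base are scheme-theoretically dense in flat schemes over it. -/

set_option autoImplicit false
set_option backward.isDefEq.respectTransparency false
set_option linter.style.haveILetI false
universe u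

open CategoryTheory AlgebraicGeometry Limits

namespace Groth.Agent.H18NormExt

theorem ker_le_of_fac {A B C : Scheme.{u}} {j : A ⟶ B} {i : C ⟶ B} {m : A ⟶ C} (h : m ≫ i = j) :
    i.ker ≤ j.ker := by
  subst h
  exact Scheme.Hom.le_ker_comp m i

theorem ext_of_flat {X Y Z : Scheme.{u}} [IsIntegral X] (h : Y ⟶ X) [Flat h] (π : Z ⟶ X) [IsSeparated π]
    (U : X.Opens) (hU : (U : Set X).Nonempty) (a b : Y ⟶ Z) (hab : a ≫ π = b ≫ π)
    (e : (h ⁻¹ᵁ U).ι ≫ a = (h ⁻¹ᵁ U).ι ≫ b) : a = b := by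
  let l := pullback.lift a b hab
  let i := pullback.fst l (pullback.diagonal π)
  haveI : IsClosedImmersion i := MorphismProperty.pullback_fst _ _ inferInstance
  let ι := (h ⁻¹ᵁ U).ι
  have hfac : pullback.lift ι (ι ≫ a) (by
      apply pullback.hom_ext <;> simp [l, ι, e]) ≫ i = ι := pullback.lift_fst _ _ _
  have hker : i.ker ≤ (h ⁻¹ᵁ U).ι.ker := ker_le_of_fac hfac
  have hbot : i.ker = ⊥ := by
    refine Scheme.IdealSheafData.ext_of_iSup_eq_top
      (U := fun W : {W : Y.affineOpens // ∃ V : X.affineOpens, W.1 ≤ h ⁻¹ᵁ V.1} => W.1) ?_ ?_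
    · refine eq_top_iff.2 fun y _ => ?_
      obtain ⟨_, ⟨V, hV, rfl⟩, hyV, -⟩ := X.isBasis_affineOpens.exists_subset_of_mem_open
        (Set.mem_univ (h y)) isOpen_univ
      obtain ⟨_, ⟨W, hW, rfl⟩, hyW, hle⟩ := Y.isBasis_affineOpens.exists_subset_of_mem_open
        (show y ∈ ((h ⁻¹ᵁ V : Y.Opens) : Set Y) from hyV) (h ⁻¹ᵁ V).2
      exact TopologicalSpace.Opens.mem_iSup.2 ⟨⟨⟨W, hW⟩, ⟨V, hV⟩, hle⟩, hyW⟩
    rintro ⟨W, V, hWV⟩
    refine eq_bot_iff.2 fun x hx => ?_
    by_cases hVne : (V.1 : Set X).Nonempty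
    swap
    · have hW0 : W.1 = ⊥ := eq_bot_iff.2 fun y hy => hVne ⟨h y, hWV hy⟩
      haveI : Subsingleton Γ(Y, W.1) := by rw [hW0]; infer_instance
      simp [Subsingleton.elim x 0]
    haveI : Nonempty V.1 := hVne.to_subtype
    have hgV : genericPoint X ∈ V.1 := (genericPoint_specializes hVne.some).mem_open V.1.2 hVne.some_mem
    have hgU : genericPoint X ∈ U := (genericPoint_specializes hU.some).mem_open U.2 hU.some_mem
    obtain ⟨f, hfU, hgf⟩ := V.2.exists_basicOpen_le ⟨genericPoint X, hgU⟩ hgV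
    have hf0 : f ≠ 0 := by
      rintro rfl
      rw [Scheme.basicOpen_zero] at hgf
      exact hgf
    let f' : Γ(Y, W.1) := h.appLE V.1 W.1 hWV f
    have hle : Y.basicOpen f' ≤ h ⁻¹ᵁ U := by
      rw [Scheme.basicOpen_appLE]
      exact inf_le_right.trans (h.preimage_mono hfU)
    haveI : IsLocalization.Away f' Γ(Y, Y.basicOpen f') := W.2.isLocalization_basicOpen f'
    have h1 : (h ⁻¹ᵁ U).ι.app W.1 x = 0 := (h ⁻¹ᵁ U).ι.ideal_ker_le W (hker W hx)
    rw [Scheme.Opens.ι_app] at h1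
    have hle' : Y.basicOpen f' ≤ (h ⁻¹ᵁ U).ι ''ᵁ (h ⁻¹ᵁ U).ι ⁻¹ᵁ W.1 := fun y hy =>
      ⟨⟨y, hle hy⟩, Y.basicOpen_le f' hy, rfl⟩
    have h0 : algebraMap Γ(Y, W.1) Γ(Y, Y.basicOpen f') x = 0 := by
      show Y.presheaf.map (homOfLE (Y.basicOpen_le f')).op x = 0
      have := congrArg (Y.presheaf.map (homOfLE hle').op) h1
      rw [map_zero] at this
      refine Eq.trans ?_ this
      exact congr($(Y.presheaf.map_comp (homOfLE _).op (homOfLE hle').op) x)
    obtain ⟨⟨_, n, rfl⟩, hn⟩ := (IsLocalization.map_eq_zero_iff (Submonoid.powers f') _ x).1 h0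
    letI := (h.appLE V.1 W.1 hWV).hom.toAlgebra
    haveI : Module.Flat Γ(X, V.1) Γ(Y, W.1) := h.flat_appLE V.2 W.2 hWV
    have hreg : IsSMulRegular Γ(Y, W.1) (f ^ n) :=
      Module.Flat.isSMulRegular_of_isRegular (IsRegular.of_ne_zero (pow_ne_zero n hf0))
    show x = 0
    refine hreg ?_
    show (f ^ n) • x = (f ^ n) • 0
    rw [smul_zero, Algebra.smul_def, map_pow]
    exact hn
  haveI : IsIso i := IsClosedImmersion.isIso_iff_ker_eq_bot.2 hbot
  have hd : l = inv i ≫ pullback.snd l (pullback.diagonal π) ≫ pullback.diagonal π := by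
    rw [IsIso.eq_inv_comp]
    exact pullback.condition
  have h1 := congrArg (· ≫ pullback.fst π π) hd
  have h2 := congrArg (· ≫ pullback.snd π π) hd
  simp only [Category.assoc, pullback.diagonal_fst, pullback.diagonal_snd, Category.comp_id, l,
    pullback.lift_fst, pullback.lift_snd] at h1 h2
  exact h1.trans h2.symm

end Groth.Agent.H18NormExt
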