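import Groth.Agent.H18NormExt.Ring
import Groth.Agent.H18NormExt.Dense
import Groth.Agent.H18Torsor.Basic
import Groth.Prelude.Def_ActBC
import Groth.Prelude.Def_Pi1
import Mathlib.AlgebraicGeometry.Pullbacks
import Mathlib.AlgebraicGeometry.Morphisms.Finite

/-! Points of finite torsors over normal bases extend from open subsets. -/

set_option autoImplicit false
set_option backward.isDefEq.respectTransparency false
set_option linter.style.haveILetI false
universe u

open CategoryTheory MonoidalCategory CartesianMonoidalCategory AlgebraicGeometry Limits TensorProduct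

namespace Groth.Agent.H18NormExt

variable {X : Scheme.{u}}

theorem isIntegrallyClosed_section [IsIntegral X] (hN : Pi1.IsNormalScheme X) {U : X.Opens} (hU : IsAffineOpen U)
    [Nonempty U] : IsIntegrallyClosed Γ(X, U) := by
  refine IsIntegrallyClosed.of_localization_maximal fun q _ hq ↦ ?_
  let p : PrimeSpectrum Γ(X, U) := ⟨q, hq.isPrime⟩
  have hmem : hU.fromSpec p ∈ U := by rw [← SetLike.mem_coe, ← hU.range_fromSpec]; exact ⟨p, rfl⟩
  letI := X.presheaf.algebra_section_stalk (U := U) ⟨hU.fromSpec p, hmem⟩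
  haveI := hU.isLocalization_stalk' p hmem
  haveI := (hN (hU.fromSpec p)).2
  exact IsIntegrallyClosed.of_equiv
    (IsLocalization.algEquiv p.asIdeal.primeCompl (X.presheaf.stalk (hU.fromSpec p))
      (Localization.AtPrime p.asIdeal)).toRingEquiv

variable {V : X.Opens} (hV : IsAffineOpen V)

/-- The `X`-scheme attached to an algebra over the sections over an affine open. -/
noncomputable def sp (D : Type u) [CommRing D] [Algebra Γ(X, V) D] : Over X :=
  Over.mk (Spec.map (CommRingCat.ofHom (algebraMap Γ(X, V) D)) ≫ hV.fromSpec)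

theorem lift_includeRight {R A C D : Type u} [CommRing R] [CommRing A] [CommRing C] [CommRing D] [Algebra R A]
    [Algebra R C] [Algebra R D] (f : A →ₐ[R] D) (g : C →ₐ[R] D) :
    (Algebra.TensorProduct.lift f g (fun _ _ => Commute.all _ _)).comp Algebra.TensorProduct.includeRight = g := by
  ext c
  simp

/-- The morphism attached to an algebra map. -/
noncomputable def spm {D D' : Type u} [CommRing D] [Algebra Γ(X, V) D] [CommRing D'] [Algebra Γ(X, V) D']
    (φ : D →ₐ[Γ(X, V)] D') : sp hV D' ⟶ sp hV D :=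
  Over.homMk (Spec.map (CommRingCat.ofHom φ.toRingHom)) (by
    simp only [sp, Over.mk_hom, ← Category.assoc, ← Spec.map_comp, ← CommRingCat.ofHom_comp,
      AlgHom.toRingHom_eq_coe, AlgHom.comp_algebraMap])

theorem spm_comp {D D' D'' : Type u} [CommRing D] [Algebra Γ(X, V) D] [CommRing D'] [Algebra Γ(X, V) D']
    [CommRing D''] [Algebra Γ(X, V) D''] (φ : D →ₐ[Γ(X, V)] D') (ψ : D' →ₐ[Γ(X, V)] D'') :
    spm hV (ψ.comp φ) = spm hV ψ ≫ spm hV φ :=
  Over.OverMorphism.ext (by simp [spm, ← Spec.map_comp, ← CommRingCat.ofHom_comp]; rfl)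

theorem flat_sp (D : Type u) [CommRing D] [Algebra Γ(X, V) D] [Module.Flat Γ(X, V) D] :
    Flat (sp hV D).hom := by
  haveI : Flat (Spec.map (CommRingCat.ofHom (algebraMap Γ(X, V) D))) := by
    rw [HasRingHomProperty.Spec_iff (P := @Flat)]
    exact RingHom.flat_algebraMap_iff.2 ‹_›
  exact inferInstanceAs (Flat (_ ≫ hV.fromSpec))

/-- An affine scheme over an affine open represents algebra maps. -/
theorem exists_alg (Q : Over X) [IsFinite Q.hom] :
    ∃ (C : CommRingCat.{u}) (_ : Algebra Γ(X, V) C) (qQ : sp hV C ⟶ Q), Module.Finite Γ(X, V) C ∧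
      ∀ (D : Type u) (_ : CommRing D) (_ : Algebra Γ(X, V) D),
        Function.Bijective fun φ : C →ₐ[Γ(X, V)] D => spm hV φ ≫ qQ := by
  let q := pullback.snd Q.hom hV.fromSpec
  haveI : IsFinite q := inferInstance
  haveI : IsAffine (pullback Q.hom hV.fromSpec) := isAffine_of_isAffineHom q
  let C : CommRingCat.{u} := Γ(pullback Q.hom hV.fromSpec, ⊤)
  let i := (pullback Q.hom hV.fromSpec).isoSpec
  let c : Γ(X, V) ⟶ C := Spec.preimage (i.inv ≫ q)
  have hc : Spec.map c = i.inv ≫ q := Spec.map_preimage _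
  letI : Algebra Γ(X, V) C := c.hom.toAlgebra
  let qQ : sp hV C ⟶ Q := Over.homMk (i.inv ≫ pullback.fst Q.hom hV.fromSpec) (by
    show (i.inv ≫ _) ≫ Q.hom = Spec.map c ≫ hV.fromSpec
    rw [hc, Category.assoc, Category.assoc, pullback.condition])
  refine ⟨C, inferInstance, qQ, ?_, fun D _ _ => ⟨fun φ ψ h => ?_, fun z => ?_⟩⟩
  · have : IsFinite (Spec.map c) := by rw [hc]; infer_instance
    exact RingHom.finite_algebraMap.1 ((IsFinite.SpecMap_iff _).1 this)
  · have h' : (Spec.map (CommRingCat.ofHom φ.toRingHom) ≫ i.inv) ≫ pullback.fst _ _ =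
        (Spec.map (CommRingCat.ofHom ψ.toRingHom) ≫ i.inv) ≫ pullback.fst _ _ := by
      simpa [spm, qQ] using congrArg CommaMorphism.left h
    have hs : ∀ χ : C →ₐ[Γ(X, V)] D, (Spec.map (CommRingCat.ofHom χ.toRingHom) ≫ i.inv) ≫ q =
        Spec.map (CommRingCat.ofHom (algebraMap Γ(X, V) D)) := fun χ => by
      rw [Category.assoc, ← hc, ← Spec.map_comp]
      exact congrArg Spec.map (CommRingCat.hom_ext χ.comp_algebraMap)
    have := pullback.hom_ext h' ((hs φ).trans (hs ψ).symm)
    rw [cancel_mono, Spec.map_inj] at this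
    exact AlgHom.ext fun x => congr($this x)
  · let w : Spec (.of D) ⟶ Spec C := pullback.lift z.left
      (Spec.map (CommRingCat.ofHom (algebraMap Γ(X, V) D))) (Over.w z) ≫ i.hom
    obtain ⟨χ, hχ⟩ : ∃ χ : C ⟶ .of D, Spec.map χ = w := ⟨_, Spec.map_preimage w⟩
    have hcomm : c ≫ χ = CommRingCat.ofHom (algebraMap Γ(X, V) D) := by
      apply Spec.map_injective
      rw [Spec.map_comp, hχ, hc]
      simp [w, q]
    refine ⟨⟨χ.hom, fun r => congr($hcomm r)⟩, Over.OverMorphism.ext ?_⟩
    show Spec.map χ ≫ i.inv ≫ pullback.fst _ _ = z.left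
    rw [hχ]
    simp [w]

variable [IsIntegral X] (U : X.Opens) {G P Q : Over X} [GrpObj G] {aP : AlgGrp.Action G P}
  {aQ : AlgGrp.Action G Q}

theorem pullback_map_injective (hU : (U : Set X).Nonempty) {Z Y : Over X} [Flat Z.hom] [IsSeparated Y.hom]
    {α β : Z ⟶ Y} (h : (Over.pullback U.ι).map α = (Over.pullback U.ι).map β) : α = β := by
  apply Over.OverMorphism.ext
  refine ext_of_flat Z.hom Y.hom U hU _ _ ((Over.w α).trans (Over.w β).symm) ?_
  let m : (Z.hom ⁻¹ᵁ U).toScheme ⟶ pullback Z.hom U.ι :=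
    pullback.lift (Z.hom ⁻¹ᵁ U).ι (Z.hom ∣_ U) (morphismRestrict_ι _ _).symm
  have := congrArg (fun g => m ≫ g ≫ pullback.fst Y.hom U.ι) (congrArg CommaMorphism.left h)
  simpa [m] using this

/-- Base change of the translate of a point. -/
theorem pullback_map_act {R : Over X} {a : AlgGrp.Action G R} {Z : Over X} (g : Z ⟶ G) (z : Z ⟶ R) :
    (Over.pullback U.ι).map (lift g z ≫ a.act) =
      lift ((Over.pullback U.ι).map g) ((Over.pullback U.ι).map z) ≫ (a.bc U.ι).act := by
  rw [AlgGrp.Action.bc_act, Functor.Monoidal.lift_μ_assoc, Functor.map_comp]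

theorem pullback_map_act_comp (e : NonAbH1.EquivIso (aP.bc U.ι) (aQ.bc U.ι)) {Z : Over X} (g : Z ⟶ G)
    (z : Z ⟶ P) (z' : Z ⟶ Q) (h : (Over.pullback U.ι).map z' = (Over.pullback U.ι).map z ≫ e.iso.hom) :
    (Over.pullback U.ι).map (lift g z' ≫ aQ.act) = (Over.pullback U.ι).map (lift g z ≫ aP.act) ≫ e.iso.hom := by
  rw [pullback_map_act, pullback_map_act, h, Category.assoc, e.comm, ← Category.assoc, lift_whiskerLeft]

/-- The image under an isomorphism over `U` of a point lying over `U`. -/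
theorem exists_image (e : Red.bc U.ι P ⟶ Red.bc U.ι Q) {Z : Over X} (u : Z.left ⟶ U.toScheme)
    (hu : u ≫ U.ι = Z.hom) (z : Z ⟶ P) :
    ∃ z' : Z ⟶ Q, z'.left = pullback.lift z.left u ((Over.w z).trans hu.symm) ≫ e.left ≫ pullback.fst Q.hom U.ι ∧
      (Over.pullback U.ι).map z' = (Over.pullback U.ι).map z ≫ e := by
  let z' : Z ⟶ Q := Over.homMk (pullback.lift z.left u ((Over.w z).trans hu.symm) ≫ e.left ≫ pullback.fst Q.hom U.ι)
    (by
      have he : e.left ≫ pullback.snd Q.hom U.ι = pullback.snd P.hom U.ι := Over.w e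
      rw [Category.assoc, Category.assoc, pullback.condition, reassoc_of% he, pullback.lift_snd_assoc, hu])
  refine ⟨z', rfl, Over.OverMorphism.ext (pullback.hom_ext ?_ ?_)⟩
  · have h1 : pullback.lift (pullback.fst Z.hom U.ι ≫ z.left) (pullback.snd Z.hom U.ι)
        (by rw [Category.assoc, Over.w z, pullback.condition]) =
        pullback.fst Z.hom U.ι ≫ pullback.lift z.left u ((Over.w z).trans hu.symm) := by
      apply pullback.hom_ext
      · simp
      · rw [pullback.lift_snd, Category.assoc, pullback.lift_snd, ← cancel_mono U.ι, Category.assoc, hu,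
          pullback.condition]
    simp [z', reassoc_of% h1]
  · exact (Over.w ((Over.pullback U.ι).map z')).trans (Over.w ((Over.pullback U.ι).map z ≫ e)).symm

/-- A point of a pseudo-torsor over a flat cover of an affine open gives a point of the other torsor
compatible with the isomorphism over `U`. -/
theorem exists_extension (hN : Pi1.IsNormalScheme X) (hU : (U : Set X).Nonempty)
    (hP : NonAbH1.IsPseudoTorsorSch aP) [IsFinite Q.hom] (e : NonAbH1.EquivIso (aP.bc U.ι) (aQ.bc U.ι))
    (hne : (V : Set X).Nonempty) (B : Type u) [CommRing B] [Algebra Γ(X, V) B]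
    [Module.FaithfullyFlat Γ(X, V) B] (o : sp hV B ⟶ P) :
    ∃ o' : sp hV B ⟶ Q, (Over.pullback U.ι).map o' = (Over.pullback U.ι).map o ≫ e.iso.hom := by
  haveI : Nonempty V := hne.to_subtype
  haveI := isIntegrallyClosed_section hN hV
  have hgV : genericPoint X ∈ V := (genericPoint_specializes hne.some).mem_open V.2 hne.some_mem
  have hgU : genericPoint X ∈ U := (genericPoint_specializes hU.some).mem_open U.2 hU.some_mem
  obtain ⟨f, hfU, hgf⟩ := hV.exists_basicOpen_le ⟨genericPoint X, hgU⟩ hgV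
  have hf0 : f ≠ 0 := by
    rintro rfl
    rw [Scheme.basicOpen_zero] at hgf
    exact hgf
  obtain ⟨C, _, qQ, _, hQ⟩ := exists_alg hV Q
  let K := Localization.Away f
  let j := Spec.map (CommRingCat.ofHom (algebraMap Γ(X, V) K))
  haveI : IsOpenImmersion j := IsOpenImmersion.of_isLocalization f
  have hj : Set.range (j ≫ hV.fromSpec) = (X.basicOpen f : Set X) := by
    rw [Scheme.Hom.comp_base, TopCat.coe_comp, Set.range_comp, ← hV.fromSpec_image_basicOpen f]
    exact congrArg _ (PrimeSpectrum.localization_away_comap_range K f)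
  -- structure maps factor through `U`
  let k : Spec (.of K) ⟶ U.toScheme := IsOpenImmersion.lift U.ι (j ≫ hV.fromSpec) (by
    rw [hj, Scheme.Opens.range_ι]; exact hfU)
  have hk : k ≫ U.ι = j ≫ hV.fromSpec := IsOpenImmersion.lift_fac _ _ _
  have fac : ∀ (D : Type u) (_ : CommRing D) (_ : Algebra Γ(X, V) D),
      ∃ u : (sp hV (D ⊗[Γ(X, V)] K)).left ⟶ U.toScheme, u ≫ U.ι = (sp hV (D ⊗[Γ(X, V)] K)).hom := fun D _ _ => by
    refine ⟨Spec.map (CommRingCat.ofHom (Algebra.TensorProduct.includeRight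
      (R := Γ(X, V)) (A := D) (B := K)).toRingHom) ≫ k, ?_⟩
    rw [Category.assoc, hk, ← Category.assoc, ← Spec.map_comp]
    exact congrArg (fun m => Spec.map m ≫ hV.fromSpec) (CommRingCat.hom_ext (RingHom.ext fun r => (Algebra.TensorProduct.includeRight (R := Γ(X, V)) (A := D) (B := K)).commutes r))
  obtain ⟨uB, huB⟩ := fac B inferInstance inferInstance
  let jB : sp hV (B ⊗[Γ(X, V)] K) ⟶ sp hV B := spm hV Algebra.TensorProduct.includeLeft
  obtain ⟨z, hz1, hz⟩ := exists_image U e.iso.hom uB huB (jB ≫ o)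
  obtain ⟨y, hy⟩ := (hQ _ inferInstance inferInstance).2 z
  -- the change of trivialisation
  let q₁ : sp hV (B ⊗[Γ(X, V)] B) ⟶ sp hV B := spm hV Algebra.TensorProduct.includeLeft
  let q₂ : sp hV (B ⊗[Γ(X, V)] B) ⟶ sp hV B := spm hV Algebra.TensorProduct.includeRight
  haveI : IsIso (lift aP.act (snd G P)) := hP
  let c : sp hV (B ⊗[Γ(X, V)] B) ⟶ G := lift (q₂ ≫ o) (q₁ ≫ o) ≫ inv (lift aP.act (snd G P)) ≫ fst G P
  have hc : lift c (q₁ ≫ o) ≫ aP.act = q₂ ≫ o := by
    have h1 : lift c (q₁ ≫ o) = lift (q₂ ≫ o) (q₁ ≫ o) ≫ inv (lift aP.act (snd G P)) := by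
      apply CartesianMonoidalCategory.hom_ext
      · simp [c]
      · rw [lift_snd, Category.assoc, show inv (lift aP.act (snd G P)) ≫ snd G P = snd P P from by
          rw [IsIso.inv_comp_eq, lift_snd], lift_snd]
    rw [h1, Category.assoc, show inv (lift aP.act (snd G P)) ≫ aP.act = fst P P from by
      rw [IsIso.inv_comp_eq, lift_fst], lift_fst]
  obtain ⟨φ, hφ⟩ := (hQ ((B ⊗[Γ(X, V)] B) ⊗[Γ(X, V)] C) inferInstance inferInstance).2
    (lift (spm hV Algebra.TensorProduct.includeLeft ≫ c) (spm hV Algebra.TensorProduct.includeRight ≫ qQ) ≫ aQ.act)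
  haveI : IsSeparated Q.hom := inferInstance
  haveI : Flat (sp hV ((B ⊗[Γ(X, V)] B) ⊗[Γ(X, V)] K)).hom :=
    haveI : Module.Flat Γ(X, V) K := IsLocalization.flat K (Submonoid.powers f)
    flat_sp hV _
  obtain ⟨y₀, hy₀⟩ := exists_lift f hf0 y φ (by
    apply (hQ _ inferInstance inferInstance).1
    have hy' : spm hV y ≫ qQ = z := hy
    have hφ' : spm hV φ ≫ qQ = CartesianMonoidalCategory.lift (spm hV Algebra.TensorProduct.includeLeft ≫ c)
      (spm hV Algebra.TensorProduct.includeRight ≫ qQ) ≫ aQ.act := hφ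
    show spm hV _ ≫ qQ = spm hV _ ≫ qQ
    rw [spm_comp hV φ, spm_comp hV y, Category.assoc, Category.assoc, hy', hφ', comp_lift_assoc,
      ← Category.assoc (spm hV _) (spm hV _) c, ← Category.assoc (spm hV _) (spm hV _) qQ, ← spm_comp, ← spm_comp,
      Algebra.TensorProduct.lift_comp_includeLeft, lift_includeRight,
      spm_comp hV y, Category.assoc, hy']
    apply pullback_map_injective U hU
    rw [pullback_map_act_comp U e _ (spm hV _ ≫ jB ≫ o) _
      (by rw [Functor.map_comp, hz, ← Functor.map_comp_assoc])]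
    rw [Functor.map_comp _ _ z, hz, ← Functor.map_comp_assoc]
    congr 2
    have e1 : spm hV (Algebra.TensorProduct.includeLeft (R := Γ(X, V)) (S := Γ(X, V))
        (A := B ⊗[Γ(X, V)] B) (B := K)) ≫ q₁ =
        spm hV (Algebra.TensorProduct.map (Algebra.TensorProduct.includeLeft (R := Γ(X, V)) (S := Γ(X, V)) (B := B))
          (AlgHom.id Γ(X, V) K)) ≫ jB := by
      rw [← spm_comp, ← spm_comp, Algebra.TensorProduct.map_comp_includeLeft]
    have e2 : spm hV (Algebra.TensorProduct.includeLeft (R := Γ(X, V)) (S := Γ(X, V))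
        (A := B ⊗[Γ(X, V)] B) (B := K)) ≫ q₂ =
        spm hV (Algebra.TensorProduct.map (Algebra.TensorProduct.includeRight (R := Γ(X, V)) (A := B))
          (AlgHom.id Γ(X, V) K)) ≫ jB := by
      rw [← spm_comp, ← spm_comp, Algebra.TensorProduct.map_comp_includeLeft]
    rw [← reassoc_of% e1, ← reassoc_of% e2, ← comp_lift_assoc, hc])
  refine ⟨spm hV y₀ ≫ qQ, Over.OverMorphism.ext (pullback.hom_ext ?_ ?_)⟩
  swap
  · exact (Over.w ((Over.pullback U.ι).map (spm hV y₀ ≫ qQ))).trans
      (Over.w ((Over.pullback U.ι).map o ≫ e.iso.hom)).symm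
  -- both sides agree over the dense open
  have hzl : jB.left ≫ (spm hV y₀ ≫ qQ).left = z.left := by
    rw [← Over.comp_left, ← Category.assoc, ← spm_comp, hy₀]
    exact congrArg CommaMorphism.left hy
  let ZU := pullback (sp hV B).hom U.ι
  let h := pullback.fst (sp hV B).hom U.ι ≫ (sp hV B).hom
  haveI : Flat h := by
    haveI := flat_sp hV B
    exact inferInstanceAs (Flat (_ ≫ _))
  refine ext_of_flat h Q.hom (X.basicOpen f) ⟨_, hgf⟩ _ _ ?_ ?_
  · have he : e.iso.hom.left ≫ pullback.snd Q.hom U.ι = pullback.snd P.hom U.ι := Over.w e.iso.hom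
    simp [pullback.condition, reassoc_of% he, h]
  let W := (h ⁻¹ᵁ X.basicOpen f)
  have hjB : Set.range jB.left = (sp hV B).hom ⁻¹' (X.basicOpen f : Set X) := by
    have h1 : jB.left = (pullbackSpecIso Γ(X, V) B K).inv ≫ pullback.fst _ _ :=
      (pullbackSpecIso_inv_fst Γ(X, V) B K).symm
    have h2 : Set.range jB.left = Set.range (pullback.fst (Spec.map (CommRingCat.ofHom (algebraMap Γ(X, V) B))) j) := by
      rw [h1]
      refine Set.Subset.antisymm ?_ ?_
      · rintro _ ⟨a, rfl⟩
        exact ⟨(pullbackSpecIso Γ(X, V) B K).inv a, rfl⟩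
      · rintro _ ⟨a, rfl⟩
        refine ⟨(pullbackSpecIso Γ(X, V) B K).hom a, ?_⟩
        exact congr($(Iso.hom_inv_id_assoc (pullbackSpecIso Γ(X, V) B K) (pullback.fst _ _)) a)
    rw [h2, Scheme.Pullback.range_fst, ← hj]
    ext b
    exact ⟨fun ⟨a, ha⟩ => ⟨a, congrArg hV.fromSpec ha⟩, fun ⟨a, ha⟩ => ⟨a, hV.fromSpec.isOpenEmbedding.injective ha⟩⟩
  haveI : IsOpenImmersion jB.left := by
    rw [show jB.left = (pullbackSpecIso Γ(X, V) B K).inv ≫ pullback.fst _ _ from
      (pullbackSpecIso_inv_fst Γ(X, V) B K).symm]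
    infer_instance
  let m := IsOpenImmersion.lift jB.left (W.ι ≫ pullback.fst (sp hV B).hom U.ι) (by
    rw [hjB]
    rintro _ ⟨w, rfl⟩
    exact w.2)
  have hm : m ≫ jB.left = W.ι ≫ pullback.fst (sp hV B).hom U.ι := IsOpenImmersion.lift_fac _ _ _
  have hl : W.ι ≫ ((Over.pullback U.ι).map o).left =
      m ≫ pullback.lift (jB ≫ o).left uB ((Over.w (jB ≫ o)).trans huB.symm) := by
    apply pullback.hom_ext
    · simp [reassoc_of% hm]
    · rw [Category.assoc, Category.assoc, pullback.lift_snd, ← cancel_mono U.ι]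
      simp only [Category.assoc]
      rw [huB, ← Over.w jB, reassoc_of% hm]
      simp [pullback.condition]
  have hL : ((Over.pullback U.ι).map (spm hV y₀ ≫ qQ)).left ≫ pullback.fst Q.hom U.ι =
      pullback.fst (sp hV B).hom U.ι ≫ (spm hV y₀ ≫ qQ).left := pullback.lift_fst _ _ _
  show W.ι ≫ ((Over.pullback U.ι).map (spm hV y₀ ≫ qQ)).left ≫ pullback.fst Q.hom U.ι =
    W.ι ≫ (((Over.pullback U.ι).map o).left ≫ e.iso.hom.left) ≫ pullback.fst Q.hom U.ι
  rw [hL, ← reassoc_of% hm, hzl, hz1, Category.assoc, reassoc_of% hl]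

end Groth.Agent.H18NormExt
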