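import Groth.Agent.H18NormExt.Extend
import Groth.Agent.H18GenTors.Finite
import Mathlib.AlgebraicGeometry.Sites.Fpqc
import Mathlib.RingTheory.RingHom.FaithfullyFlat

/-! Isomorphisms of finite flat torsors over a normal base extend from dense opens. -/

set_option autoImplicit false
set_option backward.isDefEq.respectTransparency false
set_option linter.style.haveILetI false
universe u

open CategoryTheory MonoidalCategory CartesianMonoidalCategory AlgebraicGeometry Limits

namespace Groth.Agent.H18NormExt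

variable {X : Scheme.{u}} [IsIntegral X] {U : X.Opens} {G P Q : Over X} [GrpObj G] {aP : AlgGrp.Action G P}
  {aQ : AlgGrp.Action G Q}

/-- Each point has a flat finitely presented cover with a local extension of the isomorphism. -/
theorem exists_local_hom (hN : Pi1.IsNormalScheme X) (hU : (U : Set X).Nonempty)
    (hP : NonAbH1.IsTorsorFor Scheme.fppfPrecoverage aP) [IsFinite Q.hom]
    (e : NonAbH1.EquivIso (aP.bc U.ι) (aQ.bc U.ι)) (x : X) :
    ∃ (T : Over X) (θ : P ⊗ T ⟶ Q), Flat T.hom ∧ LocallyOfFinitePresentation T.hom ∧ x ∈ Set.range T.hom ∧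
      (Over.pullback U.ι).map θ = (Over.pullback U.ι).map (fst P T) ≫ e.iso.hom := by
  obtain ⟨_, ⟨V, hV, rfl⟩, hxV, -⟩ := X.isBasis_affineOpens.exists_subset_of_mem_open (Set.mem_univ x) isOpen_univ
  obtain ⟨R, hR, hsec⟩ := hP.2
  obtain ⟨T, l, hT, hl, hlfp, hlift⟩ := H18GenTors.exists_refinement_fppf hR hV
  haveI : Flat l := hl.1.2
  haveI : Surjective l := hl.1.1
  let B := Γ(T, ⊤)
  obtain ⟨ρ, hρ⟩ : ∃ ρ : Γ(X, V) ⟶ B, Spec.map ρ = T.isoSpec.inv ≫ l ≫ hV.isoSpec.hom :=
    ⟨_, Spec.map_preimage _⟩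
  letI : Algebra Γ(X, V) B := ρ.hom.toAlgebra
  haveI : Module.FaithfullyFlat Γ(X, V) B := by
    have hf : Flat (Spec.map ρ) := by rw [hρ]; infer_instance
    have hs : Surjective (Spec.map ρ) := by rw [hρ]; infer_instance
    haveI : Module.Flat Γ(X, V) B :=
      RingHom.flat_algebraMap_iff.1 ((HasRingHomProperty.Spec_iff (P := @Flat)).1 hf)
    exact Module.FaithfullyFlat.of_comap_surjective hs.surj
  obtain ⟨sec, hsec'⟩ := hlift P.left P.hom hsec
  have ht : (sp hV B).hom = T.isoSpec.inv ≫ l ≫ Scheme.Opens.ι V := by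
    show Spec.map ρ ≫ hV.fromSpec = _
    rw [hρ, Category.assoc, Category.assoc, ← IsAffineOpen.isoSpec_inv_ι, Iso.hom_inv_id_assoc]
  let o : sp hV B ⟶ P := Over.homMk (T.isoSpec.inv ≫ sec) (by rw [Category.assoc, hsec', ← ht])
  obtain ⟨o', ho'⟩ := exists_extension hV U hN hU hP.1 e ⟨x, hxV⟩ B o
  let tr := H18Torsor.trivIso aP hP.1 o
  refine ⟨sp hV B, tr.inv ≫ lift (fst G _) (snd G _ ≫ o') ≫ aQ.act, ?_, ?_, ?_, ?_⟩
  · exact flat_sp hV B
  · rw [ht]
    infer_instance
  · rw [ht]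
    obtain ⟨t, ht'⟩ := l.surjective ⟨x, hxV⟩
    refine ⟨T.isoSpec.hom t, ?_⟩
    show (T.isoSpec.inv ≫ l ≫ Scheme.Opens.ι V) (T.isoSpec.hom t) = x
    rw [← Scheme.Hom.comp_apply, Iso.hom_inv_id_assoc, Scheme.Hom.comp_apply, ht']
    rfl
  · rw [Functor.map_comp, pullback_map_act_comp U e _ (snd G _ ≫ o) _
      (by rw [Functor.map_comp, ho', ← Functor.map_comp_assoc]), ← Category.assoc, ← Functor.map_comp,
      show tr.inv ≫ lift (fst G _) (snd G _ ≫ o) ≫ aP.act = fst P _ from by
        rw [Iso.inv_comp_eq]; exact (lift_fst _ _).symm]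

/-- An equivariant isomorphism over a dense open extends to a morphism. -/
theorem exists_hom (hN : Pi1.IsNormalScheme X) (hU : (U : Set X).Nonempty)
    (hP : NonAbH1.IsTorsorFor Scheme.fppfPrecoverage aP) [Flat P.hom] [IsFinite Q.hom]
    (e : NonAbH1.EquivIso (aP.bc U.ι) (aQ.bc U.ι)) :
    ∃ ψ : P ⟶ Q, (Over.pullback U.ι).map ψ = e.iso.hom := by
  choose T θ hTf hTp hTx hθ using exists_local_hom hN hU hP e
  let A : X → Scheme.{u} := fun x => (P ⊗ T x).left
  let dl : ∐ A ⟶ P.left := Sigma.desc fun x => (fst P (T x)).left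
  let θl : ∐ A ⟶ Q.left := Sigma.desc fun x => (θ x).left
  haveI : ∀ x, Flat (fst P (T x)).left := fun x =>
    MorphismProperty.pullback_fst (P := @Flat) P.hom (T x).hom (hTf x)
  haveI : ∀ x, LocallyOfFinitePresentation (fst P (T x)).left := fun x =>
    MorphismProperty.pullback_fst (P := @LocallyOfFinitePresentation) P.hom (T x).hom (hTp x)
  haveI : Flat dl := IsZariskiLocalAtSource.sigmaDesc inferInstance
  haveI : LocallyOfFinitePresentation dl := IsZariskiLocalAtSource.sigmaDesc inferInstance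
  haveI : Surjective dl := ⟨fun p => by
    obtain ⟨t, ht⟩ := hTx (P.hom p)
    obtain ⟨z, hz⟩ := Scheme.Pullback.exists_preimage_pullback (f := P.hom) (g := (T (P.hom p)).hom) p t ht.symm
    refine ⟨Sigma.ι A (P.hom p) z, ?_⟩
    rw [← Scheme.Hom.comp_apply, Sigma.ι_desc]
    exact hz.1⟩
  let S : Over X := Over.mk (dl ≫ P.hom)
  let ι : ∀ x, P ⊗ T x ⟶ S := fun x => Over.homMk (Sigma.ι A x) (by
    show Sigma.ι A x ≫ dl ≫ P.hom = _
    rw [Sigma.ι_desc_assoc]
    exact Over.w (fst P (T x)))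
  let D : S ⟶ P := Over.homMk dl rfl
  have hθl : θl ≫ Q.hom = dl ≫ P.hom := Sigma.hom_ext _ _ fun x => by
    simp only [θl, dl, Sigma.ι_desc_assoc]
    exact (Over.w (θ x)).trans (Over.w (fst P (T x))).symm
  let Θ : S ⟶ Q := Over.homMk θl hθl
  have hιD : ∀ x, ι x ≫ D = fst P (T x) := fun x => Over.OverMorphism.ext (Sigma.ι_desc _ _)
  have hιΘ : ∀ x, ι x ≫ Θ = θ x := fun x => Over.OverMorphism.ext (Sigma.ι_desc _ _)
  have hΘ : (Over.pullback U.ι).map Θ = (Over.pullback U.ι).map D ≫ e.iso.hom := by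
    apply Over.OverMorphism.ext
    refine Scheme.Cover.hom_ext ((sigmaOpenCover A).pullback₁ (pullback.fst S.hom U.ι)) _ _ fun (x : X) => ?_
    let g := pullback.fst (pullback.fst S.hom U.ι) (Sigma.ι A x)
    let m : pullback (pullback.fst S.hom U.ι) (Sigma.ι A x) ⟶ ((Over.pullback U.ι).obj (P ⊗ T x)).left :=
      pullback.lift (pullback.snd _ _) (g ≫ pullback.snd _ _) (by
        rw [← Over.w (ι x)]
        show pullback.snd _ _ ≫ Sigma.ι A x ≫ S.hom = _
        rw [← pullback.condition_assoc, pullback.condition, Category.assoc])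
    have hm : m ≫ ((Over.pullback U.ι).map (ι x)).left = g := by
      apply pullback.hom_ext
      · simp [m, ι, g, pullback.condition]
      · simp [m, g]
    show g ≫ _ = g ≫ _
    rw [← hm, Category.assoc, Category.assoc, ← Over.comp_left, ← Over.comp_left, ← Functor.map_comp,
      ← Functor.map_comp_assoc, hιD, hιΘ, hθ]
  let Z : Over X := Over.mk (pullback.fst dl dl ≫ dl ≫ P.hom)
  let p₁ : Z ⟶ S := Over.homMk (pullback.fst dl dl) rfl
  let p₂ : Z ⟶ S := Over.homMk (pullback.snd dl dl) (by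
    show pullback.snd dl dl ≫ dl ≫ P.hom = _
    rw [← pullback.condition_assoc]
    rfl)
  haveI : Flat Z.hom := inferInstanceAs (Flat (pullback.fst dl dl ≫ dl ≫ P.hom))
  haveI : IsSeparated Q.hom := inferInstance
  have hp : pullback.fst dl dl ≫ θl = pullback.snd dl dl ≫ θl := by
    refine congrArg CommaMorphism.left (pullback_map_injective U hU (α := p₁ ≫ Θ) (β := p₂ ≫ Θ) ?_)
    have hD : p₁ ≫ D = p₂ ≫ D := Over.OverMorphism.ext pullback.condition
    rw [Functor.map_comp, Functor.map_comp, hΘ, ← Functor.map_comp_assoc, ← Functor.map_comp_assoc, hD]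
  let ψl : P.left ⟶ Q.left := EffectiveEpi.desc dl θl fun {W} g₁ g₂ hg => by
    simpa using congrArg (pullback.lift g₁ g₂ hg ≫ ·) hp
  have hψ : dl ≫ ψl = θl := EffectiveEpi.fac _ _ _
  let ψ : P ⟶ Q := Over.homMk ψl (by rw [← cancel_epi dl, reassoc_of% hψ, hθl])
  refine ⟨ψ, ?_⟩
  have hDψ : D ≫ ψ = Θ := Over.OverMorphism.ext hψ
  let D' := ((Over.pullback U.ι).map D).left
  have hpb : IsPullback D' (pullback.fst S.hom U.ι) (pullback.fst P.hom U.ι) dl := by
    refine IsPullback.flip (IsPullback.of_bot ?_ (pullback.lift_fst _ _ _).symm (IsPullback.of_hasPullback P.hom U.ι))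
    simpa [D', S, D] using IsPullback.of_hasPullback S.hom U.ι
  haveI : Flat D' := MorphismProperty.of_isPullback (P := @Flat) hpb.flip inferInstance
  haveI : LocallyOfFinitePresentation D' :=
    MorphismProperty.of_isPullback (P := @LocallyOfFinitePresentation) hpb.flip inferInstance
  haveI : Surjective D' := MorphismProperty.of_isPullback (P := @Surjective) hpb.flip inferInstance
  apply Over.OverMorphism.ext
  rw [← cancel_epi D', ← Over.comp_left, ← Over.comp_left, ← Functor.map_comp, hDψ, hΘ]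

/-- An equivariant isomorphism over a dense open extends. -/
theorem nonempty_equivIso (hN : Pi1.IsNormalScheme X) (hU : (U : Set X).Nonempty) [Flat G.hom] [IsFinite G.hom]
    (hP : NonAbH1.IsTorsorFor Scheme.fppfPrecoverage aP) (hQ : NonAbH1.IsTorsorFor Scheme.fppfPrecoverage aQ)
    (e : NonAbH1.EquivIso (aP.bc U.ι) (aQ.bc U.ι)) (e' : NonAbH1.EquivIso (aQ.bc U.ι) (aP.bc U.ι))
    (he : e'.iso = e.iso.symm) : Nonempty (NonAbH1.EquivIso aP aQ) := by
  have hfp : ∀ {R : Over X} {a : AlgGrp.Action G R}, NonAbH1.IsTorsorFor Scheme.fppfPrecoverage a →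
      NonAbH1.IsTorsorFor Scheme.fpqcPrecoverage a := fun h =>
    ⟨h.1, h.2.choose, Scheme.fppfPrecoverage_le_fpqcPrecoverage _ h.2.choose_spec.1, h.2.choose_spec.2⟩
  haveI : IsFinite P.hom := H18Torsor.property_of_isTorsorFor aP @IsFinite (hfp hP) inferInstance
  haveI : IsFinite Q.hom := H18Torsor.property_of_isTorsorFor aQ @IsFinite (hfp hQ) inferInstance
  haveI : Flat P.hom := H18Torsor.property_of_isTorsorFor aP @Flat (hfp hP) inferInstance
  haveI : Flat Q.hom := H18Torsor.property_of_isTorsorFor aQ @Flat (hfp hQ) inferInstance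
  obtain ⟨ψ, hψ⟩ := exists_hom hN hU hP e
  obtain ⟨ψ', hψ'⟩ := exists_hom hN hU hQ e'
  haveI : IsSeparated P.hom := inferInstance
  haveI : IsSeparated Q.hom := inferInstance
  have he' : e'.iso.hom = e.iso.inv := by rw [he]; rfl
  let i : P ≅ Q :=
    { hom := ψ
      inv := ψ'
      hom_inv_id := pullback_map_injective U hU (by
        rw [Functor.map_comp, hψ, hψ', he', Iso.hom_inv_id, CategoryTheory.Functor.map_id])
      inv_hom_id := pullback_map_injective U hU (by
        rw [Functor.map_comp, hψ, hψ', he', Iso.inv_hom_id, CategoryTheory.Functor.map_id]) }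
  haveI : Flat (G ⊗ P).hom := inferInstanceAs (Flat (pullback.fst G.hom P.hom ≫ G.hom))
  refine ⟨⟨i, pullback_map_injective U hU ?_⟩⟩
  rw [← cancel_epi (Functor.LaxMonoidal.μ (Over.pullback U.ι) G P), Functor.map_comp, Functor.map_comp]
  show _ ≫ _ ≫ (Over.pullback U.ι).map ψ = _ ≫ (Over.pullback U.ι).map (G ◁ ψ) ≫ _
  rw [← Functor.LaxMonoidal.μ_natural_right_assoc, hψ, ← AlgGrp.Action.bc_act U.ι aQ,
    ← Category.assoc, ← AlgGrp.Action.bc_act U.ι aP]
  exact e.comm

end Groth.Agent.H18NormExt
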