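import Mathlib.RingTheory.Finiteness.Descent
import Mathlib.RingTheory.Flat.FaithfullyFlat.Basic
import Mathlib.RingTheory.IntegralClosure.IntegrallyClosed
import Mathlib.RingTheory.Localization.Away.Basic
import Mathlib.RingTheory.Localization.Integral
import Mathlib.RingTheory.TensorProduct.Basic

/-! Points of a finite algebra over a localized faithfully flat cover of a normal domain extend when the two
pullbacks differ by an automorphism. -/

set_option autoImplicit false
universe u

open TensorProduct

namespace Groth.Agent.H18NormExt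

variable {R : Type u} [CommRing R] [IsDomain R] [IsIntegrallyClosed R] (f : R) {B C : Type u} [CommRing B]
  [Algebra R B] [Module.FaithfullyFlat R B] [CommRing C] [Algebra R C] [Module.Finite R C]

local notation "K'" => Localization.Away f

theorem mem_range_of_finite (hf : f ≠ 0) (N₀ : Subalgebra R K') [Module.Finite R N₀] (x : K') (hx : x ∈ N₀) :
    x ∈ Set.range (algebraMap R K') := by
  have hle : Submonoid.powers f ≤ nonZeroDivisors R := powers_le_nonZeroDivisors_of_noZeroDivisors hf
  let j : K' →ₐ[R] FractionRing R := IsLocalization.liftAlgHom (M := Submonoid.powers f)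
    (f := Algebra.ofId R (FractionRing R))
    (fun y => IsLocalization.map_units (FractionRing R) (⟨y.1, hle y.2⟩ : nonZeroDivisors R))
  have hi : IsIntegral R (j x) := ((Algebra.IsIntegral.isIntegral (⟨x, hx⟩ : N₀)).map N₀.val).map j
  obtain ⟨r, hr⟩ := IsIntegrallyClosed.algebraMap_eq_of_integral hi
  refine ⟨r, ?_⟩
  have hinj : Function.Injective j := by
    show Function.Injective (IsLocalization.lift (M := Submonoid.powers f)
      (fun y => IsLocalization.map_units (FractionRing R) (⟨y.1, hle y.2⟩ : nonZeroDivisors R)))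
    rw [IsLocalization.lift_injective_iff]
    intro a b
    exact ⟨fun h => by rw [(IsLocalization.injective K' hle) h], fun h => by
      rw [(IsFractionRing.injective R (FractionRing R)) h]⟩
  exact hinj (by rw [j.commutes, hr])

/-- A point of `C` in `B ⊗ R[1/f]` whose second pullback is obtained from its first by a map of algebras
comes from a point in `B`. -/
theorem exists_lift (hf : f ≠ 0) (y : C →ₐ[R] B ⊗[R] K') (φ : C →ₐ[R] (B ⊗[R] B) ⊗[R] C)
    (h : (Algebra.TensorProduct.lift Algebra.TensorProduct.includeLeft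
        ((Algebra.TensorProduct.map (Algebra.TensorProduct.includeLeft (R := R) (S := R) (B := B))
          (AlgHom.id R K')).comp y) (fun _ _ => Commute.all _ _)).comp φ =
      (Algebra.TensorProduct.map (Algebra.TensorProduct.includeRight (R := R) (A := B))
          (AlgHom.id R K')).comp y) :
    ∃ y₀ : C →ₐ[R] B, (Algebra.TensorProduct.includeLeft (S := R)).comp y₀ = y := by
  let T : B ⊗[R] C →ₐ[B] B ⊗[R] K' :=
    Algebra.TensorProduct.lift (Algebra.ofId B _) y (fun _ _ => Commute.all _ _)
  let N : Submodule B (B ⊗[R] K') := LinearMap.range T.toLinearMap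
  let NR : Submodule R (B ⊗[R] K') := N.restrictScalars R
  let inc : K' →ₐ[R] B ⊗[R] K' := Algebra.TensorProduct.includeRight
  let N₀ : Subalgebra R K' := ((T.range).restrictScalars R).comap inc
  let Φ : K' →ₗ[R] (B ⊗[R] K') ⧸ NR := NR.mkQ ∘ₗ inc.toLinearMap
  have hker : LinearMap.ker Φ = Subalgebra.toSubmodule N₀ := by
    ext x
    simp [Φ, N₀, NR, N]
  -- the descent step
  have key : ∀ x ∈ N, x ∈ LinearMap.range ((Subalgebra.toSubmodule N₀).subtype.lTensor B) := by
    intro x hx
    rw [← hker]
    have hex : Function.Exact ((LinearMap.ker Φ).subtype.lTensor B) (Φ.lTensor B) :=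
      Module.Flat.lTensor_exact B (LinearMap.exact_subtype_ker_map Φ)
    refine (hex x).1 ?_
    -- `σ` identifies the two iterated tensor products
    let σ : (B ⊗[R] B) ⊗[R] K' →ₐ[R] B ⊗[R] (B ⊗[R] K') :=
      ((Algebra.TensorProduct.assoc R R R B B K').toAlgHom).comp
        (Algebra.TensorProduct.map (Algebra.TensorProduct.comm R B B).toAlgHom (AlgHom.id R K'))
    have hJ : ∀ z, (inc.toLinearMap.lTensor B) z =
        σ (Algebra.TensorProduct.map (Algebra.TensorProduct.includeRight (R := R) (A := B)) (AlgHom.id R K') z) := by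
      intro z
      induction z with
      | zero => simp
      | tmul b k => simp [σ, inc]
      | add a b ha hb => simp [ha, hb]
    rw [show Φ.lTensor B x = NR.mkQ.lTensor B (inc.toLinearMap.lTensor B x) from by
      rw [← LinearMap.comp_apply, ← LinearMap.lTensor_comp], hJ]
    let L : B ⊗[R] K' →ₐ[R] (B ⊗[R] B) ⊗[R] K' :=
      Algebra.TensorProduct.map (Algebra.TensorProduct.includeRight (R := R) (A := B)) (AlgHom.id R K')
    let M : B ⊗[R] K' →ₐ[R] (B ⊗[R] B) ⊗[R] K' :=
      Algebra.TensorProduct.map (Algebra.TensorProduct.includeLeft (R := R) (S := R) (B := B)) (AlgHom.id R K')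
    let Y : (B ⊗[R] B) ⊗[R] C →ₐ[R] (B ⊗[R] B) ⊗[R] K' :=
      Algebra.TensorProduct.lift Algebra.TensorProduct.includeLeft (M.comp y) (fun _ _ => Commute.all _ _)
    have hM : ∀ z : B ⊗[R] K', σ (M z) = 1 ⊗ₜ z := by
      intro z
      induction z with
      | zero => simp
      | tmul b k => simp [σ, M]
      | add a b ha hb => simp [ha, hb, tmul_add]
    have hY : ∀ w, σ (Y w) ∈ LinearMap.range (NR.subtype.lTensor B) := by
      intro w
      induction w with
      | zero => simp
      | tmul bb c =>
        induction bb with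
        | zero => simp
        | tmul b₁ b₂ =>
          refine ⟨b₂ ⊗ₜ ⟨T (b₁ ⊗ₜ c), ⟨b₁ ⊗ₜ c, rfl⟩⟩, ?_⟩
          rw [show Y ((b₁ ⊗ₜ b₂) ⊗ₜ c) = (b₁ ⊗ₜ b₂) ⊗ₜ (1 : K') * M (y c) from by simp [Y], map_mul, hM]
          simp [T, σ]
        | add a b ha hb => rw [add_tmul, map_add, map_add]; exact add_mem ha hb
      | add a b ha hb => rw [map_add, map_add]; exact add_mem ha hb
    obtain ⟨w, rfl⟩ := hx
    have hL : L (T w) ∈ Y.range := by
      induction w with
      | zero => simp
      | tmul b c =>
        refine ⟨((1 : B) ⊗ₜ b) ⊗ₜ 1 * φ c, ?_⟩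
        have hc : Y (φ c) = L (y c) := congr($h c)
        show Y _ = L (T (b ⊗ₜ c))
        rw [map_mul, hc, show T (b ⊗ₜ c) = (b ⊗ₜ (1 : K')) * y c from by simp [T], map_mul]
        congr 1
        simp [Y, L]
      | add a b ha hb => rw [map_add, map_add]; exact add_mem ha hb
    obtain ⟨v, hv⟩ := hL
    obtain ⟨n, hn⟩ := hY v
    have hv' : Y v = L (T w) := hv
    rw [show (Algebra.TensorProduct.map (Algebra.TensorProduct.includeRight (R := R) (A := B))
        (AlgHom.id R K')) (T.toLinearMap w) = Y v from hv'.symm, ← hn, ← LinearMap.comp_apply,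
      ← LinearMap.lTensor_comp, show NR.mkQ ∘ₗ NR.subtype = 0 from by ext; simp, LinearMap.lTensor_zero]
    rfl
  -- finiteness of `N₀`
  let μ : B ⊗[R] N₀ →ₗ[B] B ⊗[R] K' := N₀.val.toLinearMap.baseChange B
  have hμ : LinearMap.range μ = N := by
    refine le_antisymm ?_ fun x hx => ?_
    · rintro _ ⟨z, rfl⟩
      induction z with
      | zero => simp
      | tmul b n =>
        have : b ⊗ₜ[R] (n : K') = b • inc (n : K') := by simp [inc, smul_tmul']
        show b ⊗ₜ[R] (n : K') ∈ N
        rw [this]
        exact N.smul_mem b n.2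
      | add a b ha hb => rw [map_add]; exact add_mem ha hb
    · obtain ⟨z, hz⟩ := key x hx
      exact ⟨z, hz⟩
  have hμi : Function.Injective μ := Module.Flat.lTensor_preserves_injective_linearMap _ Subtype.val_injective
  haveI : Module.Finite B N := Module.Finite.range T.toLinearMap
  haveI : Module.Finite B (B ⊗[R] N₀) :=
    Module.Finite.equiv ((LinearEquiv.ofInjective μ hμi).trans (LinearEquiv.ofEq _ _ hμ)).symm
  haveI : Module.Finite R N₀ := Module.Finite.of_finite_tensorProduct_of_faithfullyFlat B
  -- conclusion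
  let incB : B →ₐ[R] B ⊗[R] K' := Algebra.TensorProduct.includeLeft
  have hincB : Function.Injective incB := by
    have h1 : Function.Injective ((Algebra.linearMap R K').lTensor B) :=
      Module.Flat.lTensor_preserves_injective_linearMap _
        (IsLocalization.injective K' (powers_le_nonZeroDivisors_of_noZeroDivisors hf))
    intro a b hab
    have : ((Algebra.linearMap R K').lTensor B) (a ⊗ₜ 1) = ((Algebra.linearMap R K').lTensor B) (b ⊗ₜ 1) := by
      simpa [incB] using hab
    simpa using congrArg (TensorProduct.rid R B) (h1 this)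
  have hr : ∀ c, y c ∈ incB.range := by
    intro c
    have hc : y c ∈ N := ⟨1 ⊗ₜ c, by simp [T, ← Algebra.TensorProduct.one_def]⟩
    rw [← hμ] at hc
    obtain ⟨z, hz⟩ := hc
    rw [← hz]
    clear hz
    induction z with
    | zero => simp
    | tmul b n =>
      obtain ⟨r, hr⟩ := mem_range_of_finite f hf N₀ n n.2
      refine ⟨r • b, ?_⟩
      show (r • b) ⊗ₜ[R] (1 : K') = b ⊗ₜ[R] (n : K')
      rw [smul_tmul, ← hr, Algebra.smul_def, mul_one]
    | add a b ha hb => rw [map_add]; exact add_mem ha hb
  refine ⟨(AlgEquiv.ofInjective incB hincB).symm.toAlgHom.comp (y.codRestrict incB.range hr), ?_⟩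
  ext c
  exact congrArg Subtype.val ((AlgEquiv.ofInjective incB hincB).apply_symm_apply ⟨y c, hr c⟩)

end Groth.Agent.H18NormExt
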